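import Cfsg.Agent.OD.Pre
import Cfsg.Agent.H6.Top2
set_option autoImplicit false
set_option maxRecDepth 100000
set_option Elab.async false
set_option linter.all false
namespace CfH6.M22A
open CfH6 MulAction
noncomputable def n0_0 : Net := mkNet (nat_lit 24) [(nat_lit 12, (nat_lit 0)), (nat_lit 6, (nat_lit 0x82608)), (nat_lit 3, (nat_lit 0x8a00))] [((nat_lit 0x40248), nat_lit 1), ((nat_lit 0x12490), nat_lit 1), ((nat_lit 0x248), nat_lit 1)]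
noncomputable def n0_1 : Net := mkNet (nat_lit 24) [(nat_lit 12, (nat_lit 0)), (nat_lit 6, (nat_lit 0x184f3c)), (nat_lit 3, (nat_lit 0x124b6))] [((nat_lit 0x49248), nat_lit 1), ((nat_lit 0x90412), nat_lit 1), ((nat_lit 0x48208), nat_lit 1)]
noncomputable def n0_2 : Net := mkNet (nat_lit 24) [(nat_lit 12, (nat_lit 0xd70d70)), (nat_lit 6, (nat_lit 0xc30000)), (nat_lit 3, (nat_lit 0x624db6))] [((nat_lit 0x249248), nat_lit 1), ((nat_lit 0x2412), nat_lit 1), ((nat_lit 0x1208), nat_lit 1)]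
noncomputable def n0_3 : Net := mkNet (nat_lit 24) [(nat_lit 12, (nat_lit 0)), (nat_lit 6, (nat_lit 0xd74a28)), (nat_lit 3, (nat_lit 0x12900))] [((nat_lit 0x8048), nat_lit 1), ((nat_lit 0x482092), nat_lit 1), ((nat_lit 0x48), nat_lit 1)]
noncomputable def n0_4 : Net := mkNet (nat_lit 24) [(nat_lit 12, (nat_lit 0)), (nat_lit 6, (nat_lit 0xc30)), (nat_lit 3, (nat_lit 0x8480))] [((nat_lit 0x240041), nat_lit 1), ((nat_lit 0x12010), nat_lit 1)]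
noncomputable def n2_0 : Net := mkNet (nat_lit 24) [(nat_lit 12, (nat_lit 0)), (nat_lit 6, (nat_lit 0x618f3c)), (nat_lit 3, (nat_lit 0x620912))] [((nat_lit 0x1248), nat_lit 1), ((nat_lit 0x92), nat_lit 1), ((nat_lit 0x48), nat_lit 1)]
noncomputable def n3_0 : Net := mkNet (nat_lit 20) [(nat_lit 10, (nat_lit 0xb034)), (nat_lit 5, (nat_lit 0x921c6))] [((nat_lit 0x1024), nat_lit 1), ((nat_lit 0x50942), nat_lit 1), ((nat_lit 0x214a4), nat_lit 1), ((nat_lit 0x2108), nat_lit 1)]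
noncomputable def n3_1 : Net := mkNet (nat_lit 20) [(nat_lit 10, (nat_lit 0xbd2f4)), (nat_lit 5, (nat_lit 0x503c6))] [((nat_lit 0x8420), nat_lit 1), ((nat_lit 0x52842), nat_lit 1), ((nat_lit 0x21020), nat_lit 1), ((nat_lit 0x52800), nat_lit 1), ((nat_lit 0x8400), nat_lit 1)]
noncomputable def n3_2 : Net := mkNet (nat_lit 20) [(nat_lit 10, (nat_lit 0)), (nat_lit 5, (nat_lit 0xc9b18))] [((nat_lit 0x8080), nat_lit 1), ((nat_lit 0x52948), nat_lit 1), ((nat_lit 0x4a0), nat_lit 1), ((nat_lit 0x140), nat_lit 1), ((nat_lit 0x80), nat_lit 1)]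
noncomputable def n4_0 : Net := mkNet (nat_lit 8) [(nat_lit 4, (nat_lit 0)), (nat_lit 2, (nat_lit 0x40))] [((nat_lit 0x10), nat_lit 1)]
noncomputable def nets0 : List Net := [n0_0, n0_1, n0_2, n0_3, n0_4]
noncomputable def nets1 : List Net := [n0_0, n0_1, n0_2, n0_3]
def ws1 : List (List ℕ) := [[0],
  [1],
  [2],
  [3]]
noncomputable def nets2 : List Net := [n2_0, n0_0, n0_1, n0_2]
def ws2 : List (List ℕ) := [[3, 1, 3, 1],
  [0],
  [1],
  [2]]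
noncomputable def nets3 : List Net := [n3_0, n3_1, n3_2]
def ws3 : List (List ℕ) := [[3, 0, 2, 3, 0, 3],
  [1],
  [2]]
noncomputable def nets4 : List Net := [n4_0]
def ws4 : List (List ℕ) := [[2, 0, 0, 2]]
def sig : List (List ℕ) := [[0],
  [1],
  [2],
  [3],
  [4]]
def eqs0 : List (List ℕ × List ℕ) := [([0, 0], []),
  ([1, 1], []),
  ([2, 2], []),
  ([3, 3], []),
  ([4, 4], []),
  ([0, 1], [1, 0]),
  ([0, 2, 0], [2, 0, 2]),
  ([0, 3], [3, 0]),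
  ([0, 4], [4, 0]),
  ([1, 2, 1], [2, 1, 2]),
  ([1, 3, 1, 3], [3, 1, 3, 1]),
  ([1, 4], [4, 1]),
  ([2, 3, 2], [3, 2, 3]),
  ([2, 4], [4, 2]),
  ([3, 4, 3], [4, 3, 4]),
  ([1, 2, 3, 1, 2, 3, 1, 2], [3, 2, 1, 3, 2, 1, 3]),
  ([0, 1, 2, 3, 2, 0, 1, 2, 3, 2, 0, 1, 2], [2, 3, 2, 0, 1, 2, 3, 2, 0, 1, 2, 3]),
  ([0, 1, 2, 0, 1, 3, 1, 2, 0, 1, 3, 1, 2], [3, 1, 2, 0, 1, 3, 1, 2, 0, 1, 3, 1]),
  ([1, 3, 1, 3, 4], [4, 3, 1, 3])]
def eqs : List (List ℕ × List ℕ) := eqs0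
def lU : List (ℕ × ℕ) := [(0, 7), (8, 15)]
noncomputable def U : ℕ := ivls lU
def l1 : List (ℕ × ℕ) := [(1, 6), (8, 15)]
noncomputable def S1 : ℕ := ivls l1
def w1 : List ℕ := [4]
noncomputable def J : List (List ℕ × ℕ × ℕ) := [(w1, 1, S1)]
def lBig : List (ℕ × ℕ) := [(1, 6), (8, 15)]
noncomputable def J1 : List (List ℕ × ℕ × ℕ) := [([0], 1, S1)]
def ex : List (List ℕ) := [[0, 1, 3, 4, 2]]
def bs' : List ℕ := [0, 1, 2, 3, 4]
end CfH6.M22A
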